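import Cfsg.Agent.H725.EP.SLCard
import Cfsg.Agent.H900.SU4.Base
import Cfsg.Agent.H245.PslFourThree
import Cfsg.Agent.S5782

/-!
# S3499: `PSL₄(q)`, residual class (row S5782, task 5964, helper725)
-/

set_option autoImplicit false

namespace Cfsg.Agent.H725.EP

open Subgroup Cfsg Cfsg.Agent.H284 Cfsg.Agent.H419.EP
open scoped MatrixGroups

/-- **Row S5782.** The index bounds are the theorems of the tasks 5943 and 5944. -/
theorem row_sl4 {Q : Type} [Group Q] [Finite Q] {A : Subgroup Q} {Γ : Subgroup (MulAut Q)} (h : EPT A Γ)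
    {F : Type} [Field F] [Fintype F] (m : Model Q (Geo.specialLinear (Fin 4) F)) (hF : 3 ≤ Fintype.card F)
    (hres : Geo.InLinearResidualClass (m.hat A))
    (hA7 : HasSoc A (alternatingGroup (Fin 7)) → A.index ≤ 27000)
    (hU42 : ∀ (K : Type) [Field K] [Fintype K], Fintype.card K = 4 → HasSoc A (PSU 4 K 2) → A.index ≤ 2 ^ 18) :
    False := by
  obtain ⟨P, p, hP, hp, hFp, h1⟩ := S5782.result (m.hat A) (m.isMaximalIn h.max) hres
  have hS := hasSoc_of_core m hP
  have hc := card_four m hFp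
  rw [hFp] at hF
  rcases h1 with ⟨⟨e⟩, h2⟩ | ⟨⟨K, i1, i2, hK, ⟨e⟩⟩, h2⟩
  · have h3 := hS.congr e
    have h4 := hA7 h3
    have h5 : Nat.card A ≤ 5040 :=
      h3.card_le.trans (Nat.le_of_dvd (by norm_num) H900.SU4.card_mulAut_alt_seven)
    have h6 : 11 ≤ p := by
      by_contra h7
      interval_cases p <;> first | omega | (revert hp; norm_num)
    have h7 := mono_four h6
    have h8 : Nat.card A * A.index ≤ 5040 * 27000 := Nat.mul_le_mul h5 h4
    rw [A.card_mul_index] at h8
    norm_num at h7 h8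
    omega
  · have h3 := hS.congr e
    have h4 := hU42 K hK h3
    have h5 : Nat.card A ≤ 51840 := by
      refine h3.card_le.trans (le_of_eq (H245.PslFourThree.card_aut_u42 ?_))
      exact ⟨K, i1, i2, by rw [hK]; norm_num, ⟨MulEquiv.refl _⟩⟩
    have h6 : 7 ≤ p := by omega
    have h7 := mono_four h6
    have h8 : Nat.card A * A.index ≤ 51840 * 2 ^ 18 := Nat.mul_le_mul h5 h4
    rw [A.card_mul_index] at h8
    norm_num at h7 h8
    omega

end Cfsg.Agent.H725.EP
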