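import Cfsg.Agent.H419.EP.Soc
import Cfsg.Agent.H117.EP.ModelPSL
import Cfsg.Agent.S0243

/-!
# S3499: the order of `Q` for the model `SL₄(q)` (row S5782, task 5964, helper725)
-/

set_option autoImplicit false

namespace Cfsg.Agent.H725.EP

open Subgroup Cfsg Cfsg.Agent.H284 Cfsg.Agent.H419.EP
open scoped MatrixGroups

/-- two models of the same matrix group are isomorphic -/
theorem equiv_of_model {Q Q' : Type*} [Group Q] [Group Q'] {ι : Type} [Fintype ι] [DecidableEq ι] {F : Type*} [Field F]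
    {S : Subgroup (GL ι F)} (m : Model Q S) (m' : Model Q' S) : Nonempty (Q ≃* Q') := by
  have hk : m.π.ker = m'.π.ker := by
    ext s
    rw [MonoidHom.mem_ker, MonoidHom.mem_ker, m.ker, m'.ker]
  exact ⟨(QuotientGroup.quotientKerEquivOfSurjective m.π m.surj).symm.trans
    ((QuotientGroup.quotientMulEquivOfEq hk).trans (QuotientGroup.quotientKerEquivOfSurjective m'.π m'.surj))⟩

/-- the order of `PSL₄(q)` -/
theorem card_four {Q : Type*} [Group Q] {F : Type*} [Field F] [Fintype F] (m : Model Q (Geo.specialLinear (Fin 4) F))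
    {q : ℕ} (hq : Fintype.card F = q) :
    q ^ 6 * (q ^ 2 - 1) * (q ^ 3 - 1) * (q ^ 4 - 1) ≤ 4 * Nat.card Q := by
  obtain ⟨m'⟩ := H117.EP.model_PSL (F := F) (n := 4) (by norm_num)
  obtain ⟨e⟩ := equiv_of_model m m'
  rw [Nat.card_congr e.toEquiv]
  have h := S0243.result hq 4 (by norm_num)
  have hq2 : 2 ≤ q := hq ▸ Fintype.one_lt_card
  rw [Fin.prod_univ_four] at h
  have h1 : (q ^ 4 - q ^ ((0 : Fin 4) : ℕ)) * (q ^ 4 - q ^ ((1 : Fin 4) : ℕ)) * (q ^ 4 - q ^ ((2 : Fin 4) : ℕ)) *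
      (q ^ 4 - q ^ ((3 : Fin 4) : ℕ)) = (q - 1) * (q ^ 6 * (q ^ 2 - 1) * (q ^ 3 - 1) * (q ^ 4 - 1)) := by
    have e1 : q ^ 4 - q ^ 1 = q * (q ^ 3 - 1) := by rw [Nat.mul_sub]; ring_nf
    have e2 : q ^ 4 - q ^ 2 = q ^ 2 * (q ^ 2 - 1) := by rw [Nat.mul_sub]; ring_nf
    have e3 : q ^ 4 - q ^ 3 = q ^ 3 * (q - 1) := by rw [Nat.mul_sub]; ring_nf
    show (q ^ 4 - q ^ 0) * (q ^ 4 - q ^ 1) * (q ^ 4 - q ^ 2) * (q ^ 4 - q ^ 3) = _
    rw [e1, e2, e3, pow_zero]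
    ring
  rw [h1] at h
  have h2 : (q - 1) * (Nat.gcd 4 (q - 1) * Nat.card (Matrix.ProjectiveSpecialLinearGroup (Fin 4) F)) =
      (q - 1) * (q ^ 6 * (q ^ 2 - 1) * (q ^ 3 - 1) * (q ^ 4 - 1)) := by rw [← h]; ring
  rw [← Nat.eq_of_mul_eq_mul_left (show 0 < q - 1 by omega) h2]
  exact Nat.mul_le_mul_right _ (Nat.gcd_le_left _ (by norm_num))

theorem mono_four {p : ℕ} {a : ℕ} (ha : a ≤ p) :
    a ^ 6 * (a ^ 2 - 1) * (a ^ 3 - 1) * (a ^ 4 - 1) ≤ p ^ 6 * (p ^ 2 - 1) * (p ^ 3 - 1) * (p ^ 4 - 1) := by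
  gcongr

end Cfsg.Agent.H725.EP
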